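import Mathlib

/-!
# The Eilenberg swindle (helper5)

For a projective module `M` there is a free module `G` with `M × G ≃ G`.
-/
set_option autoImplicit false
universe u
open TensorProduct

namespace Groth.Agent.Lib.Helper5.HTorLib

variable {A : Type u} [CommRing A]

section Split

variable {M F : Type u} [AddCommGroup M] [Module A M] [AddCommGroup F] [Module A F]

/-- a split surjection decomposes its source -/
noncomputable def splitEquiv (s : M →ₗ[A] F) (π : F →ₗ[A] M) (h : π.comp s = LinearMap.id) :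
    F ≃ₗ[A] M × LinearMap.ker π :=
  LinearEquiv.ofLinearMap
    (π.prod ((LinearMap.id - s.comp π).codRestrict (LinearMap.ker π) (fun r => by
      have h1 : π (s (π r)) = π r := LinearMap.congr_fun h (π r)
      simp [LinearMap.mem_ker, h1])))
    (s.coprod (LinearMap.ker π).subtype)
    (by
      apply LinearMap.ext
      rintro ⟨m, k⟩
      have h1 : π (s m) = m := LinearMap.congr_fun h m
      have h2 : π (k : F) = 0 := k.2
      ext
      · simp [h1, h2]
      · simp [h1, h2])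
    (by
      apply LinearMap.ext
      intro r
      simp)

end Split

/-- the shift `A^(ℕ) ≃ A × A^(ℕ)` -/
noncomputable def shiftEquiv (A : Type u) [CommRing A] : (ℕ →₀ A) ≃ₗ[A] A × (ℕ →₀ A) :=
  (Finsupp.domLCongr (R := A) (M := A) Equiv.natSumPUnitEquivNat.{0}.symm) ≪≫ₗ
    Finsupp.sumFinsuppLEquivProdFinsupp A ≪≫ₗ
    LinearEquiv.prodComm A _ _ ≪≫ₗ
    LinearEquiv.prodCongr (Finsupp.uniqueLinearEquiv A A PUnit.unit) (LinearEquiv.refl A _)

/-- **the Eilenberg swindle** -/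
theorem exists_free_absorb (M : Type u) [AddCommGroup M] [Module A M] [Module.Projective A M] :
    ∃ (G : Type u) (_ : AddCommGroup G) (_ : Module A G), Module.Free A G ∧
      Nonempty ((M × G) ≃ₗ[A] G) := by
  obtain ⟨s, hs⟩ := Module.projective_def'.1 (inferInstance : Module.Projective A M)
  let π : (M →₀ A) →ₗ[A] M := Finsupp.linearCombination A id
  let K := LinearMap.ker π
  let e0 : (M →₀ A) ≃ₗ[A] M × K := splitEquiv s π hs
  let S := ℕ →₀ A
  refine ⟨S ⊗[A] (M →₀ A), inferInstance, inferInstance, inferInstance, ⟨?_⟩⟩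
  -- `S ⊗ F ≃ (S ⊗ M) × (S ⊗ K)`
  let e1 : S ⊗[A] (M →₀ A) ≃ₗ[A] (S ⊗[A] M) × (S ⊗[A] K) :=
    TensorProduct.congr (LinearEquiv.refl A S) e0 ≪≫ₗ TensorProduct.prodRight A A S M K
  -- `S ⊗ M ≃ M × (S ⊗ M)`
  let e2 : S ⊗[A] M ≃ₗ[A] M × (S ⊗[A] M) :=
    TensorProduct.congr (shiftEquiv A) (LinearEquiv.refl A M) ≪≫ₗ
      TensorProduct.prodLeft A A A S M ≪≫ₗ
      LinearEquiv.prodCongr (TensorProduct.lid A M) (LinearEquiv.refl A _)
  exact LinearEquiv.prodCongr (LinearEquiv.refl A M) e1 ≪≫ₗ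
    (LinearEquiv.prodAssoc A M (S ⊗[A] M) (S ⊗[A] K)).symm ≪≫ₗ
    LinearEquiv.prodCongr e2.symm (LinearEquiv.refl A _) ≪≫ₗ e1.symm

end Groth.Agent.Lib.Helper5.HTorLib
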