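import Mathlib
import Groth.Prelude.Def_HTor
import Groth.Agent.Lib.Helper5.HTor.Swindle
import Groth.Agent.Lib.Helper5.TorAmp.Rep
import Groth.Agent.Lib.Helper5.QC.SecF

/-!
# Free models of bounded above objects of `D(A)` (helper5)
-/
set_option autoImplicit false
universe u
open CategoryTheory CategoryTheory.Limits HomologicalComplex
attribute [local instance] HasDerivedCategory.standard

namespace Groth.Agent.Lib.Helper5.HTorLib

open Groth.Agent.Helper5.TorAmp DerivedCategory Groth.Agent.Lib.Helper5.QC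

variable {A : Type u} [CommRing A]

/-- the Eilenberg swindle for objects of `ModuleCat A` -/
theorem exists_free_absorb_cat (M : ModuleCat.{u} A) (hM : Projective M) :
    ∃ G : ModuleCat.{u} A, Module.Free A G ∧ Nonempty (M ⊞ G ≅ G) := by
  haveI : Module.Projective A M := (IsProjective.iff_projective M).2 hM
  obtain ⟨G, _, _, hG, ⟨e⟩⟩ := exists_free_absorb (A := A) M
  exact ⟨ModuleCat.of A G, hG, ⟨ModuleCat.biprodIsoProd M (ModuleCat.of A G) ≪≫ e.toModuleIso⟩⟩

/-- the complex with the given terms and zero differentials -/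
noncomputable def zeroCx (G : ℤ → ModuleCat.{u} A) : DRing.Cx A where
  X := G
  d _ _ := 0
  shape _ _ _ := rfl
  d_comp_d' _ _ _ _ _ := by simp

/-- the sum of a complex with an acyclic one is quasi-isomorphic to the complex -/
theorem quasiIso_biprod_fst (P E : DRing.Cx A) (hE : E.Acyclic) :
    QuasiIso (biprod.fst : P ⊞ E ⟶ P) := by
  rw [quasiIso_iff]
  intro n
  rw [quasiIsoAt_iff_isIso_homologyMap]
  have hz : IsZero (E.homology n) := by
    rw [← exactAt_iff_isZero_homology]
    exact hE n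
  refine ⟨homologyMap (biprod.inl : P ⟶ P ⊞ E) n, ?_, ?_⟩
  · have h1 : (biprod.fst : P ⊞ E ⟶ P) ≫ biprod.inl = 𝟙 _ - biprod.snd ≫ biprod.inr := by
      rw [eq_sub_iff_add_eq, biprod.total]
    rw [← homologyMap_comp, h1, homologyMap_sub, homologyMap_id, homologyMap_comp,
      hz.eq_of_tgt (homologyMap (biprod.snd : P ⊞ E ⟶ E) n) 0, zero_comp, sub_zero]
  · rw [← homologyMap_comp, biprod.inl_fst, homologyMap_id]

/-- **free models of bounded above objects** -/
theorem exists_free_rep (M : Dual.D A) (c : ℤ) [M.IsLE c] :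
    ∃ L : DRing.Cx A, (∀ i : ℤ, Module.Free A (L.X i)) ∧ DRing.VanishesAbove L c ∧
      Nonempty (DRing.toD L ≅ M) := by
  classical
  obtain ⟨P, hPc, hproj, -, ⟨e⟩⟩ := exists_proj_rep M c
  choose G' hG'free hG'iso using fun j => exists_free_absorb_cat (P.X j) (hproj j)
  let G : ℤ → ModuleCat.{u} A := fun j => if j ≤ c then G' j else ModuleCat.of A PUnit.{u + 1}
  have hGpos : ∀ j, j ≤ c → G j = G' j := fun j h => if_pos h
  have hGneg : ∀ j, c < j → G j = ModuleCat.of A PUnit.{u + 1} := fun j h => if_neg (not_le.2 h)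
  have freeOfEq : ∀ (X Y : ModuleCat.{u} A), X = Y → Module.Free A Y → Module.Free A X := by
    rintro X _ rfl h; exact h
  have hGfree : ∀ j, Module.Free A (G j) := fun j => by
    by_cases h : j ≤ c
    · exact freeOfEq _ _ (hGpos j h) (hG'free j)
    · exact freeOfEq _ _ (hGneg j (not_le.1 h)) (Module.Free.of_subsingleton A _)
  have hGz : ∀ j, c < j → IsZero (G j) := fun j hj => by
    rw [hGneg j hj]
    exact ModuleCat.isZero_of_subsingleton _
  have hGiso : ∀ j, Nonempty (P.X j ⊞ G j ≅ G j) := fun j => by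
    by_cases h : j ≤ c
    · rw [hGpos j h]; exact hG'iso j
    · have h1 : IsZero (P.X j) := hPc j (not_le.1 h)
      have h2 : IsZero (G j) := hGz j (not_le.1 h)
      have h3 : IsZero (P.X j ⊞ G j) := by
        rw [IsZero.iff_id_eq_zero]
        apply biprod.hom_ext
        · exact h1.eq_of_tgt _ _
        · exact h2.eq_of_tgt _ _
      exact ⟨h3.iso h2⟩
  let E : DRing.Cx A := CochainComplex.mappingCone (𝟙 (zeroCx G))
  have hEac : E.Acyclic := (quasiIso_iff_acyclic_cone' (𝟙 (zeroCx G))).1 inferInstance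
  have hEX : ∀ j : ℤ, Nonempty (E.X j ≅ G (j + 1) ⊞ G j) := fun j =>
    ⟨HomologicalComplex.homotopyCofiber.XIsoBiprod (𝟙 (zeroCx G)) j (j + 1) rfl⟩
  haveI := quasiIso_biprod_fst P E hEac
  refine ⟨P ⊞ E, fun j => ?_, fun j hj => ?_,
    ⟨asIso (Q.map (biprod.fst : P ⊞ E ⟶ P)) ≪≫ e⟩⟩
  · obtain ⟨e1⟩ := hEX j
    obtain ⟨e2⟩ := hGiso j
    let iso : (P ⊞ E).X j ≅ G j ⊞ G (j + 1) :=
      biprodXIso P E j ≪≫ biprod.mapIso (Iso.refl _) (e1 ≪≫ biprod.braiding _ _) ≪≫
        (biprod.associator _ _ _).symm ≪≫ biprod.mapIso e2 (Iso.refl _)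
    haveI := hGfree j
    haveI := hGfree (j + 1)
    exact Module.Free.of_equiv
      ((iso ≪≫ ModuleCat.biprodIsoProd (G j) (G (j + 1))).toLinearEquiv.symm)
  · obtain ⟨e1⟩ := hEX j
    have h1 : IsZero (P.X j) := hPc j hj
    have h2 : IsZero (G (j + 1) ⊞ G j) := by
      rw [IsZero.iff_id_eq_zero]
      apply biprod.hom_ext
      · exact (hGz (j + 1) (by omega)).eq_of_tgt _ _
      · exact (hGz j hj).eq_of_tgt _ _
    have h3 : IsZero (P.X j ⊞ E.X j) := by
      rw [IsZero.iff_id_eq_zero]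
      apply biprod.hom_ext
      · exact h1.eq_of_tgt _ _
      · exact (h2.of_iso e1).eq_of_tgt _ _
    exact h3.of_iso (biprodXIso P E j)

end Groth.Agent.Lib.Helper5.HTorLib
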