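import Mathlib
import Groth.Prelude.Def_HTor
import Groth.Agent.Lib.Helper5.TorAmp.Rep

/-!
# Projective models with controlled amplitude (helper5)

If every `A`-module has projective dimension `≤ d`, an object of `D(A)` with cohomology in
`[a, c]` is represented by a complex of projective modules concentrated in `[a - d, c]`.
-/
set_option autoImplicit false
universe u
open CategoryTheory CategoryTheory.Limits HomologicalComplex
attribute [local instance] HasDerivedCategory.standard

namespace Groth.Agent.Lib.Helper5.HTorLib

section Abelian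

variable {C : Type*} [Category C] [Abelian C]

lemma fromOpcycles_pOpcycles (K : CochainComplex C ℤ) (i j : ℤ) :
    K.fromOpcycles i j ≫ K.pOpcycles j = 0 := by
  rw [← cancel_epi (K.pOpcycles i), K.p_fromOpcycles_assoc, K.d_pOpcycles, comp_zero]

/-- the short exact sequence `0 ⟶ K^i / B^i ⟶ K^j ⟶ K^j / B^j ⟶ 0` when `K` is exact at `i` -/
theorem shortExact_opcycles (K : CochainComplex C ℤ) (i j : ℤ) (hij : i + 1 = j)
    (h : K.ExactAt i) :
    (ShortComplex.mk (K.fromOpcycles i j) (K.pOpcycles j)
      (fromOpcycles_pOpcycles K i j)).ShortExact := by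
  have hmono : Mono (K.fromOpcycles i j) := by
    have hz : IsZero (K.homology i) := by
      rwa [← HomologicalComplex.exactAt_iff_isZero_homology]
    exact Preadditive.mono_of_isZero_kernel' _ (K.homologyIsKernel i j (by simp [hij])) hz
  have hcok : IsColimit (CokernelCofork.ofπ (K.pOpcycles j) (fromOpcycles_pOpcycles K i j)) :=
    isCokernelOfComp (K.pOpcycles i) (K.d i j) (K.opcyclesIsCokernel i j (by simp [← hij]))
      (fromOpcycles_pOpcycles K i j) (K.p_fromOpcycles i j)
  haveI := hmono
  exact ShortComplex.ShortExact.mk' (ShortComplex.exact_of_g_is_cokernel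
    (ShortComplex.mk (K.fromOpcycles i j) (K.pOpcycles j) (fromOpcycles_pOpcycles K i j)) hcok)
    hmono (inferInstanceAs (Epi (K.pOpcycles j)))

/-- dimension shifting along a complex of projectives which is exact below `a` -/
theorem projective_opcycles (P : CochainComplex C ℤ) (hP : ∀ i, Projective (P.X i)) (a : ℤ)
    (d : ℕ) (hex : ∀ i : ℤ, i < a → P.ExactAt i)
    (hpd : HasProjectiveDimensionLT (P.opcycles a) (d + 1)) :
    Projective (P.opcycles (a - d)) := by
  have key : ∀ k : ℕ, k ≤ d → HasProjectiveDimensionLT (P.opcycles (a - k)) (d + 1 - k) := by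
    intro k
    induction k with
    | zero =>
      intro _
      simpa using hpd
    | succ k ih =>
      intro hk
      have h1 := ih (by omega)
      have hS := shortExact_opcycles P (a - (k + 1 : ℕ)) (a - k) (by push_cast; ring)
        (hex _ (by push_cast; omega))
      have e1 : d + 1 - k = (d + 1 - (k + 1)) + 1 := by omega
      rw [e1] at h1
      haveI := hP (a - k)
      have h2 : HasProjectiveDimensionLT (P.X (a - k)) (d + 1 - (k + 1)) :=
        hasProjectiveDimensionLT_of_ge (P.X (a - k)) 1 _ (by omega)
      exact hS.hasProjectiveDimensionLT_X₁ (d + 1 - (k + 1)) h2 h1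
  have h := key d le_rfl
  have e : d + 1 - d = 1 := by omega
  rw [e] at h
  exact projective_iff_hasProjectiveDimensionLT_one.2 h

end Abelian


open Groth.Agent.Helper5.TorAmp DerivedCategory

variable {A : Type u} [CommRing A]

/-- **projective models with controlled amplitude** -/
theorem exists_proj_bounded (M : Dual.D A) (a c : ℤ) (d : ℕ) [M.IsGE a] [M.IsLE c]
    (hA : ∀ N : ModuleCat.{u} A, HasProjectiveDimensionLT N (d + 1)) :
    ∃ L : DRing.Cx A, (∀ i : ℤ, Module.Projective A (L.X i)) ∧
      DRing.VanishesOutside L (a - d) c ∧ Nonempty (DRing.toD L ≅ M) := by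
  obtain ⟨P, hPc, hproj, -, ⟨e⟩⟩ := exists_proj_rep M c
  haveI : (Q.obj P).IsGE a := TStructure.t.isGE_of_iso e.symm a
  haveI hPa : P.IsGE a := (isGE_Q_obj_iff P a).1 inferInstance
  haveI hPad : P.IsGE (a - d) := P.isGE_of_ge (a - d) a (by omega)
  have hex : ∀ i : ℤ, i < a → P.ExactAt i := fun i hi => P.exactAt_of_isGE a i hi
  have hop : Projective (P.opcycles (a - d)) :=
    projective_opcycles P hproj a d hex (hA _)
  haveI : QuasiIso (P.πTruncGE (a - d)) := (P.quasiIso_πTruncGE_iff (a - d)).2 hPad
  refine ⟨P.truncGE (a - d), fun i => ?_, fun i hi => ?_,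
    ⟨(asIso (Q.map (P.πTruncGE (a - d)))).symm ≪≫ e⟩⟩
  · -- projectivity of the terms
    have hcat : Projective ((P.truncGE (a - d)).X i) := by
      rcases lt_trichotomy i (a - d) with h | h | h
      · exact ((P.truncGE (a - d)).isZero_of_isStrictlyGE (a - d) i h).projective
      · subst h
        exact Projective.of_iso (P.truncGEXIsoOpcycles (a - d)).symm hop
      · exact Projective.of_iso (P.truncGEXIso (a - d) i h).symm (hproj i)
    exact (IsProjective.iff_projective ((P.truncGE (a - d)).X i)).2 hcat
  · rcases hi with hi | hi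
    · exact (P.truncGE (a - d)).isZero_of_isStrictlyGE (a - d) i hi
    · rcases lt_trichotomy i (a - d) with h | h | h
      · exact (P.truncGE (a - d)).isZero_of_isStrictlyGE (a - d) i h
      · subst h
        have hz : IsZero (P.X (a - d)) := hPc _ hi
        have : IsZero (P.opcycles (a - d)) := by
          rw [IsZero.iff_id_eq_zero, ← cancel_epi (P.pOpcycles (a - d))]
          exact hz.eq_of_src _ _
        exact this.of_iso (P.truncGEXIsoOpcycles (a - d))
      · exact (hPc i hi).of_iso (P.truncGEXIso (a - d) i h)

end Groth.Agent.Lib.Helper5.HTorLib
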